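import Cfsg.Agent.H859.K547.HN
import Cfsg.Agent.H226.R2.Base
import Cfsg.Agent.H776.CY.Congr

/-!
# S4829, `p = 2`: the row `HN` (helper145)

The constituent of degree 16929 of the permutation character of degree 1539000 is rational and invariant under all
automorphisms (proof: helper859's `H859.K547.HN.inv3`).
-/

set_option autoImplicit false

namespace Cfsg.Agent.H145.R2.HN

open Cfsg Cfsg.Agent.H226.R2 Cfsg.Agent.H770.CY Cfsg.Agent.Characters.Core
open Cfsg.Agent.H443.HN.Frame Cfsg.Agent.H443.HN.Scheme Cfsg.Agent.H187.Scheme.HN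
open Cfsg.Agent.H859.K547.HN (fix_aut)

/-- a rational character of degree 16929, invariant under all automorphisms -/
theorem exists_chi : ∃ b : G → ℂ, IsIrrCharacter G b ∧ b 1 = (16929 : ℕ) ∧ (∀ g, ∃ q : ℚ, b g = q) ∧
    ∀ (α : MulAut G) (g : G), b (α g) = b g := by
  have := Fintype.ofFinite G
  obtain ⟨χ, N, h1, h2, h3, h4, h5, h6, h7⟩ := Cfsg.Agent.H38.K4.HN.chars_rat
  have hirr : ∀ s, N s s = 1 → IsIrrCharacter G (χ s) := fun s h =>
    isIrr_of_classInner_self (h1 s) (by rw [h5, h, Nat.cast_one])
  have hne : N 1 1 ≠ 1 := by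
    intro h
    have h8 := Blocks.Knorr.charDegree_dvd (hirr 1 h)
    rw [Cfsg.Agent.H38.K4.charDegree_eq (h2 1), Cfsg.Agent.H38.K4.HN.card_G] at h8
    revert h8
    show ¬ (12749 ∣ 273030912000000)
    norm_num
  simp only [Fin.sum_univ_eight] at h7
  have e0 := h6 0
  have e1 := h6 1
  have e2 := h6 2
  have e3 := h6 3
  have e4 := h6 4
  have e5 := h6 5
  have e6 := h6 6
  have e7 := h6 7
  have hN1 : N 1 1 = 2 := by omega
  have hN : ∀ s : Fin 8, s ≠ 1 → N s s = 1 := by
    intro s hs
    fin_cases s
    · show N 0 0 = 1; omega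
    · exact absurd rfl hs
    · show N 2 2 = 1; omega
    · show N 3 3 = 1; omega
    · show N 4 4 = 1; omega
    · show N 5 5 = 1; omega
    · show N 6 6 = 1; omega
    · show N 7 7 = 1; omega
  obtain ⟨a, b, ha, -, hb, -, hab⟩ := Cfsg.Agent.H38.K4.norm_two (h1 1) (by rw [h5, hN1]; norm_num) (h2 1) (by decide)
    (h4 1)
  have hdeg : charDegree a + charDegree b = 12749 := by
    have h8 := congrFun hab 1
    rw [h2 1, Pi.add_apply, Cfsg.Agent.Blocks.Basic.irr_one_eq_charDegree ha.1.1,
      Cfsg.Agent.Blocks.Basic.irr_one_eq_charDegree hb] at h8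
    have h9 : nn 1 = charDegree a + charDegree b := by exact_mod_cast h8
    exact h9.symm
  -- invariance
  have key : ∀ s : Fin 8, s ≠ 1 → 12749 < nn s → (∀ t, nn t = nn s → t = s) → ∀ (α : MulAut G) (g : G),
      χ s (α g) = χ s g := by
    intro s hs hbig huniq α g
    have hi := hirr s (hN s hs)
    set ψ : G → ℂ := fun g => χ s (α g) with hψ
    have hψi : IsIrrCharacter G ψ := isIrr_comp α.toMonoidHom α.surjective hi
    have hψd : charDegree ψ = nn s := by
      apply Cfsg.Agent.H38.K4.charDegree_eq
      show χ s (α 1) = _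
      rw [map_one]
      exact h2 s
    by_contra hcon
    have hz : ∀ t, classInner (χ t) ψ = 0 := by
      intro t
      by_cases ht : t = 1
      · subst ht
        rw [hab, classInner_add_left, classInner_irr_ne ha.1.1 hψi, classInner_irr_ne hb hψi, add_zero]
        · intro h
          rw [h] at hdeg
          omega
        · intro h
          rw [h] at hdeg
          omega
      · refine classInner_irr_ne (hirr t (hN t ht)) hψi fun h => ?_
        have h9 : nn t = nn s := by
          rw [← hψd, ← h]
          exact (Cfsg.Agent.H38.K4.charDegree_eq (h2 t)).symm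
        have h10 := huniq t h9
        subst h10
        exact hcon (congrFun h g).symm
    -- the multiplicity in the permutation character
    set π : G → ℂ := ∑ t, χ t with hπ
    have hπα : π ∘ α = π := by
      funext g
      show π (α g) = π g
      rw [hπ, Finset.sum_apply, Finset.sum_apply, h3, h3, fix_aut]
    have hsum : ∀ φ : G → ℂ, classInner π φ = ∑ t, classInner (χ t) φ := fun φ =>
      classInner_sum_left _ _ _
    have h8 : classInner π ψ = 0 := by
      rw [hsum]
      exact Finset.sum_eq_zero fun t _ => hz t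
    have h9 : classInner π ψ = classInner π (χ s) := by
      have h10 := Cfsg.Agent.Characters.Clifford.classInner_comp_mulEquiv α π (χ s)
      rw [hπα] at h10
      exact h10
    have h10 : classInner π (χ s) = ((∑ t, N t s : ℕ) : ℂ) := by
      rw [hsum]
      push_cast
      exact Finset.sum_congr rfl fun t _ => h5 t s
    rw [h9, h10] at h8
    have h11 : ∑ t, N t s = 0 := by exact_mod_cast h8
    have h12 := Finset.single_le_sum (f := fun t => N t s) (fun t _ => Nat.zero_le _) (Finset.mem_univ s)
    have h13 := h6 s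
    omega
  have d2 : nn 2 = 16929 := rfl
  have u2 : ∀ t, nn t = nn 2 → t = 2 := by decide
  exact ⟨χ 2, hirr 2 (hN 2 (by decide)), h2 2, h4 2, fun α g => key 2 (by decide) (by rw [d2]; norm_num) u2 α g⟩

theorem row2_HN : Row2 Cfsg.Spor.HN := by
  have hfin : Finite Cfsg.Spor.HN := inferInstanceAs (Finite G)
  obtain ⟨b, h1, h2, h3, h4⟩ := exists_chi
  refine row2_of_odd_index (Γ := ⊤) (by rw [Subgroup.index_top]; decide)
    ⟨b, h1, ?_, ⟨16929, by decide, h2⟩, h3, fun τ _ x => h4 τ x⟩
  intro h6
  rw [h6, Pi.one_apply] at h2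
  norm_num at h2

theorem rowFor2_HN : RowFor2 (fun X _ => Spor.IsoHN X) := by
  intro X _ _ _ _ hX
  obtain ⟨e⟩ := hX
  exact H776.CY.Row2.congr e row2_HN

end Cfsg.Agent.H145.R2.HN
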